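import Groth.Agent.Dcoh.MonPull292
import Groth.Agent.Dcoh.MonInst
import Groth.Agent.Ega3B.ProjTwist
import Groth.Prelude.Def_BrSev

/-!
# Tensor products, finite sums, pullback; the twists carried by a splitting

* `pullTens`, `pullCoprod`, `pullPow`: pullback commutes with `tensorMod`, coproducts, `BrSev.pow`.
* `tensPow`: `M^r ⊗ N^s ≅ (M ⊗ N)^(r s)`.
* `twist_mul`: `O_e(j) ⊗ O_e(l) ≅ O_e(j + l)`, `twist_zero`: `O_e(0) ≅ O`.
* `isTwPow_tensor`.
-/

set_option autoImplicit false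

universe u v w

open CategoryTheory CategoryTheory.Limits AlgebraicGeometry MonoidalCategory

namespace Groth.Agent.ASBun.K791.Tens

open scoped Groth.Agent.Dcoh.MonCat

section Pull

variable {X Y : Scheme.{u}} (f : X ⟶ Y)

/-- Pullback commutes with tensor products. -/
noncomputable def pullTens (M N : Y.Modules) :
    (Scheme.Modules.pullback f).obj (CohB1.tensorMod M N) ≅
      CohB1.tensorMod ((Scheme.Modules.pullback f).obj M) ((Scheme.Modules.pullback f).obj N) :=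
  letI := Groth.Agent.Dcoh.MonPull.monPull f
  (Functor.Monoidal.μIso (Scheme.Modules.pullback f) M N).symm

/-- Pullback of the structure sheaf. -/
noncomputable def pullUnit :
    (Scheme.Modules.pullback f).obj (Coh.structureModule Y) ≅ Coh.structureModule X :=
  letI := Groth.Agent.Dcoh.MonPull.monPull f
  (Functor.Monoidal.εIso (Scheme.Modules.pullback f)).symm

instance : PreservesColimitsOfSize.{0, 0} (Scheme.Modules.pullback f) :=
  (Scheme.Modules.pullbackPushforwardAdjunction f).leftAdjoint_preservesColimits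

/-- Pullback commutes with small coproducts. -/
noncomputable def pullCoprod {ι : Type} (M : ι → Y.Modules) :
    (Scheme.Modules.pullback f).obj (∐ M) ≅ ∐ fun i => (Scheme.Modules.pullback f).obj (M i) :=
  (PreservesCoproduct.iso (Scheme.Modules.pullback f) M)

/-- Pullback commutes with finite powers. -/
noncomputable def pullPow (M : Y.Modules) (r : ℕ) :
    (Scheme.Modules.pullback f).obj (BrSev.pow M r) ≅ BrSev.pow ((Scheme.Modules.pullback f).obj M) r :=
  pullCoprod f _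

end Pull

section Pow

variable {X : Scheme.{u}}

/-- Functoriality of `pow` on isomorphisms. -/
noncomputable def powMap {M N : X.Modules} (e : M ≅ N) (r : ℕ) : BrSev.pow M r ≅ BrSev.pow N r :=
  Sigma.mapIso fun _ => e

/-- `∐` over equivalent index types. -/
noncomputable def powEquiv {ι κ : Type} (e : ι ≃ κ) (M : X.Modules) :
    (∐ fun _ : ι => M) ≅ ∐ fun _ : κ => M :=
  Sigma.whiskerEquiv e fun _ => Iso.refl M

/-- `(M^r)^s ≅ M^(s r)` (as a sum over pairs). -/
noncomputable def sigmaPow {ι κ : Type} (M : X.Modules) :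
    (∐ fun _ : ι => ∐ fun _ : κ => M) ≅ ∐ fun _ : ι × κ => M :=
  (sigmaSigmaIso (fun _ : ι => κ) (fun (_ : ι) (_ : κ) => M)) ≪≫
    powEquiv (Equiv.sigmaEquivProd ι κ) M

/-- `M ⊗ (∐ N_i) ≅ ∐ (M ⊗ N_i)`. -/
noncomputable def tensCoprod {ι : Type} (M : X.Modules) (N : ι → X.Modules) :
    CohB1.tensorMod M (∐ N) ≅ ∐ fun i => CohB1.tensorMod M (N i) :=
  PreservesCoproduct.iso (tensorLeft M) N

/-- `(∐ M_i) ⊗ N ≅ ∐ (M_i ⊗ N)`. -/
noncomputable def coprodTens {ι : Type} (M : ι → X.Modules) (N : X.Modules) :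
    CohB1.tensorMod (∐ M) N ≅ ∐ fun i => CohB1.tensorMod (M i) N :=
  PreservesCoproduct.iso (tensorRight N) M

/-- Tensor products of isomorphisms. -/
noncomputable def tensMap {M M' N N' : X.Modules} (e : M ≅ M') (e' : N ≅ N') :
    CohB1.tensorMod M N ≅ CohB1.tensorMod M' N' :=
  tensorIso e e'

/-- `M^r ⊗ N^s ≅ (M ⊗ N)^(r s)`. -/
noncomputable def tensPow (M N : X.Modules) (r s : ℕ) :
    CohB1.tensorMod (BrSev.pow M r) (BrSev.pow N s) ≅ BrSev.pow (CohB1.tensorMod M N) (r * s) :=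
  coprodTens _ _ ≪≫ (Sigma.mapIso fun _ => tensCoprod _ _) ≪≫ sigmaPow _ ≪≫
    powEquiv finProdFinEquiv _

/-- `(M^r)^s ≅ M^(s r)`. -/
noncomputable def powPow (M : X.Modules) (r s : ℕ) :
    BrSev.pow (BrSev.pow M r) s ≅ BrSev.pow M (s * r) :=
  sigmaPow _ ≪≫ powEquiv finProdFinEquiv _

/-- `M ⊗ N ≅ N ⊗ M`. -/
noncomputable def tensComm (M N : X.Modules) : CohB1.tensorMod M N ≅ CohB1.tensorMod N M :=
  β_ M N

/-- `(M ⊗ N) ⊗ P ≅ M ⊗ (N ⊗ P)`. -/
noncomputable def tensAssoc (M N P : X.Modules) :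
    CohB1.tensorMod (CohB1.tensorMod M N) P ≅ CohB1.tensorMod M (CohB1.tensorMod N P) :=
  α_ M N P

/-- `O ⊗ M ≅ M`. -/
noncomputable def tensLUnit (M : X.Modules) : CohB1.tensorMod (Coh.structureModule X) M ≅ M :=
  λ_ M

/-- `M ⊗ O ≅ M`. -/
noncomputable def tensRUnit (M : X.Modules) : CohB1.tensorMod M (Coh.structureModule X) ≅ M :=
  ρ_ M

end Pow

section Twist

/-- `O(i) ⊗ O(j) ≅ O(i + j)` on projective space. -/
theorem twistProj_mul (n : ℕ) (A : Type u) [CommRing A] (i j : ℤ) :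
    Nonempty (CohB1.tensorMod (Twist.twistProjSpace n A i) (Twist.twistProjSpace n A j) ≅
      Twist.twistProjSpace n A (i + j)) := by
  have h := Ega3B.ProjTwist.coveredByOne n A
  have h1 := Ega2.TwistInv.isIso_mulHom h (rfl : i + j = i + j)
  exact ⟨@asIso _ _ _ _ (Ega2.TwistMul.mulHom (CohB1.polyGrading n A) (rfl : i + j = i + j)) h1⟩

/-- `O(0) ≅ O` on projective space. -/
theorem twistProj_zero (n : ℕ) (A : Type u) [CommRing A] :
    Nonempty (Twist.twistProjSpace n A 0 ≅ Coh.structureModule (CohB1.ProjSpace n A)) := by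
  obtain ⟨e⟩ := Ega2.TwistInv.nonempty_unit_iso (CohB1.polyGrading n A)
  exact ⟨e.symm⟩

variable {k : Type u} [Field k] {X : Scheme.{u}} {p : X ⟶ Spec (CommRingCat.of k)}
  {K : Type u} [Field K] [Algebra k K] {n : ℕ} (e : BrSev.Splitting p K n)

/-- `O_e(j) ⊗ O_e(l) ≅ O_e(j + l)`. -/
theorem twist_mul (j l : ℤ) :
    Nonempty (CohB1.tensorMod (e.twist j) (e.twist l) ≅ e.twist (j + l)) := by
  obtain ⟨φ⟩ := twistProj_mul n K j l
  exact ⟨(pullTens e.iso.hom _ _).symm ≪≫ (Scheme.Modules.pullback e.iso.hom).mapIso φ⟩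

/-- `O_e(0) ≅ O`. -/
theorem twist_zero : Nonempty (e.twist 0 ≅ Coh.structureModule (BrSev.bc p K)) := by
  obtain ⟨φ⟩ := twistProj_zero n K
  exact ⟨(Scheme.Modules.pullback e.iso.hom).mapIso φ ≪≫ pullUnit e.iso.hom⟩

/-- The tensor product of modules of types `O(j)^r` and `O(l)^s` has type `O(j + l)^(r s)`. -/
theorem isTwPow_tensor {j l : ℤ} {r s : ℕ} {W W' : X.Modules} (hW : BrSev.IsTwPow e j r W)
    (hW' : BrSev.IsTwPow e l s W') :
    BrSev.IsTwPow e (j + l) (r * s) (CohB1.tensorMod W W') := by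
  obtain ⟨φ⟩ := hW
  obtain ⟨ψ⟩ := hW'
  obtain ⟨χ⟩ := twist_mul e j l
  exact ⟨pullTens _ W W' ≪≫ tensMap φ ψ ≪≫ tensPow _ _ r s ≪≫ powMap χ _⟩

end Twist

end Groth.Agent.ASBun.K791.Tens
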