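import Groth.Agent.ASBun.K792.EndPow
import Mathlib.LinearAlgebra.FreeModule.Finite.Basic
import Mathlib.LinearAlgebra.Dimension.Finite
import Mathlib.CategoryTheory.Preadditive.Opposite
import Mathlib.LinearAlgebra.Dimension.DivisionRing
import Mathlib.Algebra.Group.Units.Opposite

/-!
# Homs out of an object whose endomorphism ring is a division ring

* `exists_pow_bij`: if the nonzero endomorphisms of `W` are invertible and `Hom(W, F)` is finite over a field
  over which the category is linear, there is `Φ : ∐_{Fin s} W ⟶ F` such that composition with `Φ` is a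
  bijection `Hom(W, ∐ W) → Hom(W, F)`.
* `bij_retract`, `bij_map`: transport of such bijections.
-/

set_option autoImplicit false

universe v u w

open CategoryTheory CategoryTheory.Limits

namespace Groth.Agent.ASBun.K791.DivHom

section Transport

variable {C : Type u} [Category.{v} C] {W L V F : C}

/-- Bijectivity of `Hom(W, Φ)` passes to retracts of `W`. -/
theorem bij_retract (i : L ⟶ W) (p : W ⟶ L) (hip : i ≫ p = 𝟙 L) (Φ : V ⟶ F)
    (h : Function.Bijective (fun g : W ⟶ V => g ≫ Φ)) : Function.Bijective (fun g : L ⟶ V => g ≫ Φ) := by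
  constructor
  · intro g g' hg
    have h1 : p ≫ g = p ≫ g' := by
      apply h.1
      change (p ≫ g) ≫ Φ = (p ≫ g') ≫ Φ
      rw [Category.assoc, Category.assoc]
      exact congrArg (fun t => p ≫ t) hg
    rw [← Category.id_comp g, ← Category.id_comp g', ← hip, Category.assoc, Category.assoc, h1]
  · intro g
    obtain ⟨g', hg'⟩ := h.2 (p ≫ g)
    refine ⟨i ≫ g', ?_⟩
    change (i ≫ g') ≫ Φ = g
    rw [Category.assoc]
    have : g' ≫ Φ = p ≫ g := hg'
    rw [this, ← Category.assoc, hip, Category.id_comp]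

/-- Bijectivity of `Hom(W, Φ)` passes through fully faithful functors. -/
theorem bij_map {D : Type*} [Category* D] (T : C ⥤ D) [T.Full] [T.Faithful] (Φ : V ⟶ F)
    (h : Function.Bijective (fun g : W ⟶ V => g ≫ Φ)) :
    Function.Bijective (fun g : T.obj W ⟶ T.obj V => g ≫ T.map Φ) := by
  constructor
  · intro g g' hg
    obtain ⟨g, rfl⟩ := T.map_surjective g
    obtain ⟨g', rfl⟩ := T.map_surjective g'
    have h1 : T.map g ≫ T.map Φ = T.map g' ≫ T.map Φ := hg
    rw [← T.map_comp, ← T.map_comp] at h1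
    rw [h.1 (T.map_injective h1)]
  · intro g
    obtain ⟨g, rfl⟩ := T.map_surjective g
    obtain ⟨g', hg'⟩ := h.2 g
    refine ⟨T.map g', ?_⟩
    change T.map g' ≫ T.map Φ = _
    rw [← T.map_comp]
    exact congrArg T.map hg'

end Transport

section Basis

variable (k : Type w) [Field k] {C : Type u} [Category.{v} C] [Preadditive C] [Linear k C]

theorem exists_pow_bij (W F : C) (hW : ∀ f : W ⟶ W, f ≠ 0 → IsIso f)
    [Module.Finite k (W ⟶ F)] [HasFiniteCoproducts C] :
    ∃ (s : ℕ) (Φ : (∐ fun _ : Fin s => W) ⟶ F),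
      Function.Bijective (fun g : W ⟶ ∐ fun _ : Fin s => W => g ≫ Φ) := by
  classical
  by_cases hW0 : (𝟙 W : W ⟶ W) = 0
  · refine ⟨0, 0, ?_, ?_⟩
    · intro g g' _
      rw [← Category.id_comp g, ← Category.id_comp g', hW0, zero_comp, zero_comp]
    · intro g
      refine ⟨0, ?_⟩
      rw [← Category.id_comp g, hW0]
      simp
  have hnt : Nontrivial (End W)ᵐᵒᵖ := by
    have : Nontrivial (End W) := ⟨⟨(1 : End W), 0, hW0⟩⟩
    infer_instance
  let iD : DivisionRing (End W)ᵐᵒᵖ := DivisionRing.ofIsUnitOrEqZero (fun a => by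
    by_cases ha : a = 0
    · exact Or.inr ha
    · left
      have h1 : a.unop ≠ 0 := fun h => ha (MulOpposite.unop_injective h)
      have h2 : IsIso (show W ⟶ W from a.unop) := hW _ h1
      have h3 : IsUnit a.unop := by
        refine ⟨⟨a.unop, inv (show W ⟶ W from a.unop), ?_, ?_⟩, rfl⟩
        · exact IsIso.inv_hom_id _
        · exact IsIso.hom_inv_id _
      exact h3.op)
  have hT : IsScalarTower k (End W)ᵐᵒᵖ (W ⟶ F) := ⟨fun c a g => by
    change (c • a.unop : W ⟶ W) ≫ g = c • (a.unop ≫ g)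
    rw [Linear.smul_comp]⟩
  have hfin : Module.Finite (End W)ᵐᵒᵖ (W ⟶ F) := Module.Finite.of_restrictScalars_finite k _ _
  let b := Module.finBasis (End W)ᵐᵒᵖ (W ⟶ F)
  let D := K792.EndPow.Dec.coprod (C := C) fun _ : Fin (Module.finrank (End W)ᵐᵒᵖ (W ⟶ F)) => W
  refine ⟨_, Sigma.desc b, ?_, ?_⟩
  · intro g g' hg
    change g ≫ Sigma.desc b = g' ≫ Sigma.desc b at hg
    have key : ∀ g : W ⟶ ∐ fun _ : Fin (Module.finrank (End W)ᵐᵒᵖ (W ⟶ F)) => W,
        g ≫ Sigma.desc b = ∑ i, (MulOpposite.op (g ≫ D.π i) : (End W)ᵐᵒᵖ) • b i := by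
      intro g
      have h1 : g = ∑ i, g ≫ D.π i ≫ D.ι i := by
        rw [← Preadditive.comp_sum, D.sum, Category.comp_id]
      conv_lhs => rw [h1]
      rw [Preadditive.sum_comp]
      refine Finset.sum_congr rfl fun i _ => ?_
      rw [Category.assoc, Category.assoc]
      change g ≫ D.π i ≫ Sigma.ι (fun _ : Fin (Module.finrank (End W)ᵐᵒᵖ (W ⟶ F)) => W) i ≫ Sigma.desc b =
        (g ≫ D.π i) ≫ b i
      rw [Sigma.ι_desc, Category.assoc]
    have h2 : ∀ i, g ≫ D.π i = g' ≫ D.π i := by
      intro i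
      have h3 : ∑ i, (MulOpposite.op (g ≫ D.π i) : (End W)ᵐᵒᵖ) • b i =
          ∑ i, (MulOpposite.op (g' ≫ D.π i) : (End W)ᵐᵒᵖ) • b i := by
        rw [← key, ← key]
        exact hg
      have h4 := congrArg (fun t => b.repr t i) h3
      simp only [b.repr_sum_self] at h4
      exact MulOpposite.op_injective h4
    have h5 : ∀ g : W ⟶ ∐ fun _ : Fin (Module.finrank (End W)ᵐᵒᵖ (W ⟶ F)) => W,
        g = ∑ i, (g ≫ D.π i) ≫ D.ι i := by
      intro g
      conv_lhs => rw [← Category.comp_id g, ← D.sum, Preadditive.comp_sum]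
      refine Finset.sum_congr rfl fun i _ => ?_
      rw [Category.assoc]
    rw [h5 g, h5 g']
    refine Finset.sum_congr rfl fun i _ => ?_
    rw [h2]
  · intro g
    refine ⟨∑ i, (b.repr g i).unop ≫ D.ι i, ?_⟩
    change (∑ i, (b.repr g i).unop ≫ D.ι i) ≫ Sigma.desc b = g
    conv_rhs => rw [← b.sum_repr g]
    rw [Preadditive.sum_comp]
    refine Finset.sum_congr rfl fun i _ => ?_
    rw [Category.assoc]
    change (b.repr g i).unop ≫ Sigma.ι (fun _ : Fin (Module.finrank (End W)ᵐᵒᵖ (W ⟶ F)) => W) i ≫ Sigma.desc b =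
      (b.repr g i).unop ≫ b i
    rw [Sigma.ι_desc]

end Basis

end Groth.Agent.ASBun.K791.DivHom
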