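import Groth.Agent.ASBun.K791.Tens
import Groth.Agent.Dcoh.DualFLF
import Groth.Agent.Dcoh.Spread
import Groth.Agent.Dcoh.FinLocFree
import Groth.Agent.PerfB.FreeRank
import Groth.Agent.PerfC.PullRestrict
import Groth.Agent.Sga67.LocBasisOps
import Groth.Agent.CohqA.ProjDim
import Groth.Agent.Fdesc.LocGenPullback

/-!
# Duals of modules of type `O(j)^r`, invertible twists, indecomposability

* `exists_dual`: a finite locally free module has a (finite locally free) dual `V` (an `ExactPairing W V`).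
* `dual_isTwPow`: the dual of a module of type `O(j)^r` has type `O(-j)^r`.
* `indec_dual`: the dual of an indecomposable finite locally free module is indecomposable.
* `indec_tens`: `W ⊗ L` is indecomposable if `W` is and `L` is tensor-invertible.
* `pow_inj`: `L^r ≅ L^s` with `L` invertible on a nonempty scheme forces `r = s`.
-/

set_option autoImplicit false

universe u v w

open CategoryTheory CategoryTheory.Limits AlgebraicGeometry MonoidalCategory

namespace Groth.Agent.ASBun.K791.Dual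

open scoped Groth.Agent.Dcoh.MonCat
open Groth.Agent.ASBun.K791.Tens

section Abs

variable {C : Type u} [Category.{v} C] [MonoidalCategory C]

/-- Tensoring on the left with an object having a two-sided tensor inverse is an equivalence. -/
noncomputable def tensEquiv {W L' : C} (φ : W ⊗ L' ≅ 𝟙_ C) (ψ : L' ⊗ W ≅ 𝟙_ C) : C ≌ C :=
  CategoryTheory.Equivalence.mk (tensorLeft L') (tensorLeft W)
    ((leftUnitorNatIso C).symm ≪≫ ((curriedTensor C).mapIso φ).symm ≪≫ tensorLeftTensor W L')
    ((tensorLeftTensor L' W).symm ≪≫ (curriedTensor C).mapIso ψ ≪≫ leftUnitorNatIso C)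

/-- A two-sided tensor inverse is a dual. -/
noncomputable def dualIsoInverse {W V L' : C} [ExactPairing W V] (φ : W ⊗ L' ≅ 𝟙_ C)
    (ψ : L' ⊗ W ≅ 𝟙_ C) : V ≅ L' :=
  (ρ_ V).symm ≪≫
    (((tensorLeftAdjunction W V).leftAdjointUniq (tensEquiv φ ψ).toAdjunction).app (𝟙_ C)) ≪≫ ρ_ L'

end Abs

variable {X : Scheme.{u}}

/-- Indecomposability in the form used by the statements. -/
def Indec (M : X.Modules) : Prop :=
  ¬ IsZero M ∧ ∀ M₁ M₂ : X.Modules, Nonempty (M ≅ M₁ ⊞ M₂) → IsZero M₁ ∨ IsZero M₂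

theorem Indec.of_iso {M N : X.Modules} (e : M ≅ N) (h : Indec M) : Indec N :=
  ⟨fun hN => h.1 (hN.of_iso e), fun M₁ M₂ ⟨f⟩ => h.2 M₁ M₂ ⟨e ≪≫ f⟩⟩

/-- Finite locally free modules have finite locally free duals. -/
theorem exists_dual {W : X.Modules} (hW : FlatMod.IsFinLocFree W) :
    ∃ V : X.Modules, FlatMod.IsFinLocFree V ∧ Nonempty (ExactPairing W V) := by
  obtain ⟨V, ⟨h⟩⟩ := Dcoh.DualFLF.exists_exactPairing hW
  exact ⟨V, Dcoh.DualFLF.isFinLocFree_dual hW V, ⟨h⟩⟩

theorem isFinLocFree_left {A B : X.Modules} (h : FlatMod.IsFinLocFree (A ⊞ B)) :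
    FlatMod.IsFinLocFree A :=
  Dcoh.Spread.isFinLocFree_of_retract biprod.inl biprod.fst (by simp) h

theorem isFinLocFree_right {A B : X.Modules} (h : FlatMod.IsFinLocFree (A ⊞ B)) :
    FlatMod.IsFinLocFree B :=
  Dcoh.Spread.isFinLocFree_of_retract biprod.inr biprod.snd (by simp) h

/-- Exact pairing of binary biproducts. -/
@[instance_reducible]
noncomputable def biprodPairing (A B A' B' : X.Modules) [ExactPairing A A'] [ExactPairing B B'] :
    ExactPairing (A ⊞ B) (A' ⊞ B') :=
  let : ∀ j : Bool, ExactPairing (cond j A B) (cond j A' B') := fun j =>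
    match j with
    | true => inferInstanceAs (ExactPairing A A')
    | false => inferInstanceAs (ExactPairing B B')
  Dcoh.DualSum.exactPairingSum (J := Bool) (f := fun j => cond j A B) (g := fun j => cond j A' B')
    (fun j => match j with | true => biprod.inl | false => biprod.inr)
    (fun j => match j with | true => biprod.fst | false => biprod.snd)
    (fun j => match j with | true => biprod.inl | false => biprod.inr)
    (fun j => match j with | true => biprod.fst | false => biprod.snd)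
    (by rw [Fintype.sum_bool]; exact biprod.total)
    (by rw [Fintype.sum_bool]; exact biprod.total)
    (by rintro (_ | _) <;> simp)
    (by rintro (_ | _) (_ | _) h <;> simp at h ⊢)
    (by rintro (_ | _) <;> simp)
    (by rintro (_ | _) (_ | _) h <;> simp at h ⊢)

/-- The dual of an indecomposable finite locally free module is indecomposable. -/
theorem indec_dual {W V : X.Modules} (hV : FlatMod.IsFinLocFree V) [ExactPairing W V]
    (hW : Indec W) : Indec V := by
  let sw : ExactPairing V W := BraidedCategory.exactPairing_swap W V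
  refine ⟨fun h => hW.1 (Dcoh.MonInst.isZero_of_pairing (Z := V) (Z' := W) h), ?_⟩
  rintro A B ⟨e⟩
  have hAB : FlatMod.IsFinLocFree (A ⊞ B) := Dcoh.FinLocFree.isFinLocFree_of_iso e hV
  obtain ⟨A', -, ⟨pA⟩⟩ := exists_dual (isFinLocFree_left hAB)
  obtain ⟨B', -, ⟨pB⟩⟩ := exists_dual (isFinLocFree_right hAB)
  let pAB : ExactPairing (A ⊞ B) (A' ⊞ B') := biprodPairing A B A' B'
  let pV : ExactPairing V (A' ⊞ B') := exactPairingCongrLeft e
  have i : W ≅ A' ⊞ B' := rightDualIso sw pV
  rcases hW.2 A' B' ⟨i⟩ with h | h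
  · left
    let := BraidedCategory.exactPairing_swap A A'
    exact Dcoh.MonInst.isZero_of_pairing (Z := A') (Z' := A) h
  · right
    let := BraidedCategory.exactPairing_swap B B'
    exact Dcoh.MonInst.isZero_of_pairing (Z := B') (Z' := B) h

instance additive_tensorRight (L : X.Modules) : (tensorRight L).Additive where
  map_add {_ _ f g} := MonoidalPreadditive.add_whiskerRight f g

/-- Tensoring a binary biproduct. -/
noncomputable def biprodTens (A B L : X.Modules) :
    CohB1.tensorMod (A ⊞ B) L ≅ CohB1.tensorMod A L ⊞ CohB1.tensorMod B L :=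
  haveI := preservesBinaryBiproduct_of_preservesBiproduct (tensorRight L) A B
  (tensorRight L).mapBiprod A B

/-- Twisting back and forth. -/
noncomputable def tensCancel (W : X.Modules) {L L' : X.Modules}
    (i : CohB1.tensorMod L L' ≅ Coh.structureModule X) :
    CohB1.tensorMod (CohB1.tensorMod W L) L' ≅ W :=
  tensAssoc W L L' ≪≫ tensMap (Iso.refl W) i ≪≫ tensRUnit W

theorem isZero_of_tens {W L L' : X.Modules} (i : CohB1.tensorMod L L' ≅ Coh.structureModule X)
    (h : IsZero (CohB1.tensorMod W L)) : IsZero W :=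
  ((tensorRight L').map_isZero h).of_iso (tensCancel W i).symm

/-- `W ⊗ L` is indecomposable if `W` is and `L` has a tensor inverse. -/
theorem indec_tens {W L L' : X.Modules} (i : CohB1.tensorMod L L' ≅ Coh.structureModule X)
    (hW : Indec W) : Indec (CohB1.tensorMod W L) := by
  refine ⟨fun h => hW.1 (isZero_of_tens i h), ?_⟩
  rintro A B ⟨e⟩
  have i' : CohB1.tensorMod L' L ≅ Coh.structureModule X := tensComm L' L ≪≫ i
  have e' : W ≅ CohB1.tensorMod A L' ⊞ CohB1.tensorMod B L' :=
    (tensCancel W i).symm ≪≫ tensMap e (Iso.refl L') ≪≫ biprodTens A B L'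
  rcases hW.2 _ _ ⟨e'⟩ with h | h
  · exact Or.inl (isZero_of_tens i' h)
  · exact Or.inr (isZero_of_tens i' h)

/-- Restriction commutes with finite powers. -/
theorem restrictPow {U : X.Opens} (L : X.Modules) (r : ℕ) :
    Nonempty ((BrSev.pow L r).restrict U.ι ≅ BrSev.pow (L.restrict U.ι) r) := by
  have a := (Scheme.Modules.restrictFunctorIsoPullback U.ι)
  exact ⟨a.app (BrSev.pow L r) ≪≫ pullPow U.ι L r ≪≫ powMap (a.app L).symm r⟩

/-- `L^r ≅ L^s` for `L` invertible on a nonempty scheme implies `r = s`. -/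
theorem pow_inj (x : X) {L : X.Modules} (hL : PicF.IsInvertible L) {r s : ℕ}
    (e : BrSev.pow L r ≅ BrSev.pow L s) : r = s := by
  obtain ⟨U, hx, ⟨φ⟩⟩ := hL x
  obtain ⟨a⟩ := restrictPow (U := U) L r
  obtain ⟨b⟩ := restrictPow (U := U) L s
  have c : FlatMod.freeMod (↑U) r ≅ FlatMod.freeMod (↑U) s :=
    (powMap φ r).symm ≪≫ a.symm ≪≫ (Scheme.Modules.restrictFunctor U.ι).mapIso e ≪≫ b ≪≫ powMap φ s
  exact PerfB.FreeRank.rank_eq (⟨x, hx⟩ : (U : Scheme.{u})) c

section Tw

variable {k : Type u} [Field k] {p : X ⟶ Spec (CommRingCat.of k)}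
  {K : Type u} [Field K] [Algebra k K] {n : ℕ} (e : BrSev.Splitting p K n)

/-- `O_e(j) ⊗ O_e(-j) ≅ O`. -/
theorem twist_neg (j : ℤ) :
    Nonempty (CohB1.tensorMod (e.twist j) (e.twist (-j)) ≅ Coh.structureModule (BrSev.bc p K)) := by
  obtain ⟨a⟩ := twist_mul e j (-j)
  obtain ⟨b⟩ := twist_zero e
  exact ⟨a ≪≫ eqToIso (by rw [add_neg_cancel]) ≪≫ b⟩

/-- `O_e(j)` is invertible. -/
theorem isInvertible_twist (j : ℤ) : PicF.IsInvertible (e.twist j) :=
  Fdesc.LocGen.isInvertible_pullback e.iso.hom (Ega3B.ProjTwist.isInvertible_twistProjSpace n K j)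

/-- The dual of a module of type `O(j)^r` has type `O(-j)^r`. -/
theorem dual_isTwPow {j : ℤ} {r : ℕ} {W V : X.Modules} [ExactPairing W V]
    (h : BrSev.IsTwPow e j r W) : BrSev.IsTwPow e (-j) r V := by
  obtain ⟨φ⟩ := h
  obtain ⟨t⟩ := twist_neg e j
  have hfl : FlatMod.IsFinLocFree (e.twist j) := fun x => by
    obtain ⟨U, hx, ⟨a⟩⟩ := isInvertible_twist e j x
    exact ⟨U, 1, hx, ⟨a ≪≫ (coproductUniqueIso (fun _ : Fin 1 => Coh.structureModule (↑U : Scheme.{u}))).symm⟩⟩
  obtain ⟨D, -, ⟨pD⟩⟩ := exists_dual hfl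
  have i : D ≅ e.twist (-j) := dualIsoInverse (W := e.twist j) t (tensComm _ _ ≪≫ t)
  let := Groth.Agent.Dcoh.MonPull.monPull (BrSev.proj p K)
  let p1 : ExactPairing (BrSev.bcMod p K W) (BrSev.bcMod p K V) :=
    Dcoh.MonDual.mapExactPairing (Scheme.Modules.pullback (BrSev.proj p K)) W V
  let p2 : ExactPairing (BrSev.pow (e.twist j) r) (BrSev.pow D r) :=
    Dcoh.DualSum.exactPairingCoprod (C := (BrSev.bc p K).Modules) (fun _ : Fin r => e.twist j)
      (fun _ : Fin r => D)
  let p3 : ExactPairing (BrSev.bcMod p K W) (BrSev.pow D r) := exactPairingCongrLeft φ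
  exact ⟨rightDualIso p1 p3 ≪≫ powMap i r⟩

include e in
theorem nonempty_bc : Nonempty (BrSev.bc p K) := by
  obtain ⟨x⟩ : Nonempty (CohB1.ProjSpace n K) := inferInstance
  exact ⟨e.iso.inv x⟩

/-- The multiplicity in type `O(j)^r` is well defined. -/
theorem isTwPow_inj {j : ℤ} {r s : ℕ} {W : X.Modules}
    (h : BrSev.IsTwPow e j r W) (h' : BrSev.IsTwPow e j s W) : r = s := by
  obtain ⟨φ⟩ := h
  obtain ⟨ψ⟩ := h'
  obtain ⟨x⟩ := nonempty_bc e
  exact pow_inj x (isInvertible_twist e j) (φ.symm ≪≫ ψ)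

end Tw

end Groth.Agent.ASBun.K791.Dual
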