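import Groth.Agent.ASBun.K791.QMap
import Groth.Agent.ASBun.K791.Dual
import Groth.Agent.ASBun.K792.EndBC
import Groth.Agent.ASBun.K792.HomFin
import Groth.Agent.Lefpen.H717.ProjIrr
import Groth.Agent.Ega3B.ProjProper
import Groth.Agent.PerfA.CohSerre
import Mathlib.CategoryTheory.Idempotents.Basic
import Mathlib.RingTheory.SimpleModule.WedderburnArtin

/-!
# Endomorphisms of indecomposable modules of type `O(j)^r`

* `isUnit_of_idem`: a simple Artinian ring without nontrivial idempotents is a division ring;
* `idem_of_indec`: idempotent endomorphisms of an indecomposable object are trivial;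
* `isIso_of_ne_zero`: nonzero endomorphisms of an indecomposable module of type `O(j)^r` are isomorphisms.
-/

set_option autoImplicit false
set_option backward.isDefEq.respectTransparency false

universe v u

open CategoryTheory CategoryTheory.Limits AlgebraicGeometry

namespace Groth.Agent.ASBun.K791.EndDiv

section alg

/-- A semisimple ring without nontrivial idempotents is a division ring. -/
theorem isUnit_of_idem {R : Type*} [Ring R] [IsSemisimpleRing R] (h : ∀ e : R, e * e = e → e = 0 ∨ e = 1)
    (x : R) (hx : x ≠ 0) : IsUnit x := by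
  have key : ∀ x : R, x ≠ 0 → ∃ y : R, y * x = 1 := by
    intro x hx
    obtain ⟨e, he, h1⟩ := IsSemisimpleRing.ideal_eq_span_idempotent (Ideal.span {x})
    rcases h e he with rfl | rfl
    · exfalso
      apply hx
      have : x ∈ Ideal.span {(0 : R)} := by rw [← h1]; exact Ideal.mem_span_singleton_self x
      rwa [Ideal.span_singleton_zero, Ideal.mem_bot] at this
    · have h2 : (1 : R) ∈ Ideal.span {x} := by rw [h1]; exact Ideal.mem_span_singleton_self 1
      exact Ideal.mem_span_singleton'.1 h2
  obtain ⟨y, hy⟩ := key x hx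
  have hy0 : y ≠ 0 := by
    rintro rfl
    rw [zero_mul] at hy
    exact hx (by rw [← one_mul x, ← hy, zero_mul])
  obtain ⟨z, hz⟩ := key y hy0
  have hzx : z = x := by
    calc z = z * (y * x) := by rw [hy, mul_one]
      _ = x := by rw [← mul_assoc, hz, one_mul]
  rw [hzx] at hz
  exact ⟨⟨x, y, hz, hy⟩, rfl⟩

end alg

section cat

variable {C : Type u} [Category.{v} C] [Preadditive C] [IsIdempotentComplete C] [HasBinaryBiproducts C]

/-- Idempotents of an indecomposable object are trivial. -/
theorem idem_of_indec {W : C} (h : ∀ A B : C, Nonempty (W ≅ A ⊞ B) → IsZero A ∨ IsZero B)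
    (e : W ⟶ W) (he : e ≫ e = e) : e = 0 ∨ e = 𝟙 W := by
  obtain ⟨Y, i, p, hip, hpi⟩ := IsIdempotentComplete.idempotents_split W e he
  obtain ⟨Z, j, q, hjq, hqj⟩ := IsIdempotentComplete.idempotents_split W (𝟙 W - e)
    (Idempotents.idem_of_id_sub_idem e he)
  have hej : j ≫ e = 0 := by
    have h1 : j ≫ q ≫ j ≫ e = 0 := by
      rw [← Category.assoc q j, hqj, Preadditive.sub_comp, he, Category.id_comp, sub_self, comp_zero]
    rwa [← Category.assoc, hjq, Category.id_comp] at h1
  have hie : i ≫ (𝟙 W - e) = 0 := by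
    have h1 : i ≫ p ≫ i ≫ (𝟙 W - e) = 0 := by
      rw [← Category.assoc p i, hpi, Preadditive.comp_sub, he, Category.comp_id, sub_self, comp_zero]
    rwa [← Category.assoc, hip, Category.id_comp] at h1
  have hjp : j ≫ p = 0 := by
    have h1 : (j ≫ p) ≫ i ≫ p = 0 := by
      rw [Category.assoc, ← Category.assoc p i, hpi, ← Category.assoc, hej, zero_comp]
    rwa [hip, Category.comp_id] at h1
  have hiq : i ≫ q = 0 := by
    have h1 : (i ≫ q) ≫ j ≫ q = 0 := by
      rw [Category.assoc, ← Category.assoc q j, hqj, ← Category.assoc, hie, zero_comp]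
    rwa [hjq, Category.comp_id] at h1
  have hW : W ≅ Y ⊞ Z :=
    { hom := biprod.lift p q
      inv := biprod.desc i j
      hom_inv_id := by
        rw [biprod.lift_desc, hpi, hqj]
        abel
      inv_hom_id := by
        apply biprod.hom_ext' <;> apply biprod.hom_ext <;> simp [hip, hjq, hjp, hiq] }
  rcases h Y Z ⟨hW⟩ with h0 | h0
  · left
    rw [← hpi, h0.eq_of_tgt p 0, zero_comp]
  · right
    have h1 : 𝟙 W - e = 0 := by rw [← hqj, h0.eq_of_tgt q 0, zero_comp]
    exact (sub_eq_zero.1 h1).symm

end cat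

section geom

open Groth.Agent.ASBun.K791.QMap K792.EndPow K792.EndBC

attribute [local instance] Groth.Agent.CurvesC.LinMod.linearModules

variable {k : Type u} [Field k] {X : Scheme.{u}} {f : X ⟶ Spec (CommRingCat.of k)}
  {K : Type u} [Field K] [Algebra k K] {n : ℕ} (e : BrSev.Splitting f K n)

/-- The endomorphism algebra of a module of type `O(j)^r`, `r > 0`, is simple. -/
theorem isSimpleRing_end [IsProper f] [IsAlgClosed K] {j : ℤ} {r : ℕ} (hr : 0 < r) {W : X.Modules}
    (hW : Coh.IsCoh W) (hWt : BrSev.IsTwPow e j r W) : IsSimpleRing (End W) := by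
  let o1 : X.Over (Spec (CommRingCat.of k)) := ⟨f⟩
  let o2 : (CohB1.ProjSpace n K).Over (Spec (CommRingCat.of K)) := ⟨CohB1.ProjSpace.toSpec n K⟩
  have o3 : IsProper (CohB1.ProjSpace n K ↘ Spec (CommRingCat.of K)) := Ega3B.ProjProper.isProper_toSpec n K
  have : CompactSpace X := QuasiCompact.compactSpace_of_compactSpace f
  obtain ⟨φ⟩ := (isTwPow_iff e j r W).1 hWt
  let D : Dec ((Scheme.Modules.pullback (q e)).obj W) (fun _ : Fin r => Twist.twistProjSpace n K j) :=
    Dec.ofCoprodIso φ
  have h1 : Function.Bijective (algebraMap K (End (Twist.twistProjSpace n K j))) :=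
    K792.EndLine.bijective_algebraMap_end K (Ega3B.ProjTwist.isInvertible_twistProjSpace n K j)
  have h2 : IsSimpleRing (End (Twist.twistProjSpace n K j)) :=
    IsSimpleRing.of_ringEquiv (RingEquiv.ofBijective _ h1) inferInstance
  have h3 : Nonempty (Fin r) := ⟨⟨0, hr⟩⟩
  have hS : IsSimpleRing (End ((Scheme.Modules.pullback (q e)).obj W)) :=
    IsSimpleRing.of_ringEquiv D.endRingEquiv.symm inferInstance
  let i1 : Algebra k (End ((Scheme.Modules.pullback (q e)).obj W)) := algA (B := K) _
  have i2 := isScalarTower_end (A := k) (B := K) ((Scheme.Modules.pullback (q e)).obj W)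
  exact isSimpleRing_of_isBaseChange (mapEnd (A := k) (B := K) (q e) (isPullback_q e) W)
    (isBaseChange_mapEnd (A := k) (B := K) (q e) (isPullback_q e) W hW) hS

/-- Nonzero endomorphisms of an indecomposable module of type `O(j)^r` are isomorphisms. -/
theorem isIso_of_ne_zero [IsProper f] [IsAlgClosed K] {j : ℤ} {r : ℕ} (hr : 0 < r) {W : X.Modules}
    (hW : FlatMod.IsFinLocFree W) (hWi : Dual.Indec W) (hWt : BrSev.IsTwPow e j r W) (g : W ⟶ W)
    (hg : g ≠ 0) : IsIso g := by
  let o1 : X.Over (Spec (CommRingCat.of k)) := ⟨f⟩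
  have o2 : IsProper (X ↘ Spec (CommRingCat.of k)) := inferInstanceAs (IsProper f)
  have hN : IsLocallyNoetherian X := LocallyOfFiniteType.isLocallyNoetherian f
  have hWc : Coh.IsCoh W := PerfA.CohSerre.isCoh_of_isFinLocFree hW
  have hs := isSimpleRing_end e hr hWc hWt
  have hfin : Module.Finite k (W ⟶ W) := K792.HomFin.finite_hom k W W hWc hWc
  have hfin' : Module.Finite k (End W) := hfin
  have hart : IsArtinianRing (End W) := IsArtinianRing.of_finite k (End W)
  have hss : IsSemisimpleRing (End W) := inferInstance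
  have h1 : IsUnit (M := End W) g := isUnit_of_idem (R := End W) (fun x hx => idem_of_indec hWi.2 x hx) g hg
  obtain ⟨u, hu⟩ := h1
  refine ⟨⟨(↑u⁻¹ : End W), ?_, ?_⟩⟩
  · have h2 : (↑u⁻¹ : End W) * (↑u : End W) = 1 := Units.inv_mul u
    rw [hu] at h2
    exact h2
  · have h2 : (↑u : End W) * (↑u⁻¹ : End W) = 1 := Units.mul_inv u
    rw [hu] at h2
    exact h2

end geom

end Groth.Agent.ASBun.K791.EndDiv
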