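import Groth.Agent.ASBun.K791.QMap
import Groth.Agent.ASBun.K791.Dual
import Groth.Agent.ASBun.K791.DivHom
import Groth.Agent.ASBun.K792.HomBC
import Groth.Agent.Sga67.TwistProj

/-!
# Bijectivity of `Hom(W, Φ)` on `X` and of `Γ(P, q^* Φ (m))`

* `bijective_of_isBaseChange`, `bij_pull`: bijectivity of `Hom(W, Φ)` is stable under a free extension of the
  base.
* `bij_tA`: if `W` has type `O(-m)^r`, `r ≥ 1`, and `Hom(W, Φ)` is bijective then `q^* Φ (m)` is bijective on
  global sections.
-/

set_option autoImplicit false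
set_option backward.isDefEq.respectTransparency false

universe u

open CategoryTheory CategoryTheory.Limits AlgebraicGeometry MonoidalCategory
open scoped TensorProduct

namespace Groth.Agent.ASBun.K791.HomBij

open K792.HomBC Groth.Agent.ASBun.K791.QMap Groth.Agent.ASBun.K791.DivHom

section alg

variable {A B : Type*} [CommRing A] [CommRing B] [Algebra A B] {M N M' N' : Type*}
  [AddCommGroup M] [Module A M] [AddCommGroup N] [Module A N]
  [AddCommGroup M'] [Module A M'] [Module B M'] [IsScalarTower A B M']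
  [AddCommGroup N'] [Module A N'] [Module B N'] [IsScalarTower A B N']

/-- The base change of a bijection is a bijection. -/
theorem bijective_of_isBaseChange (f : M →ₗ[A] M') (hf : IsBaseChange B f) (g : N →ₗ[A] N')
    (hg : IsBaseChange B g) (φ : M →ₗ[A] N) (φ' : M' →ₗ[B] N') (h : ∀ x, φ' (f x) = g (φ x))
    (hφ : Function.Bijective φ) : Function.Bijective φ' := by
  let e := LinearEquiv.ofBijective φ hφ
  have h1 : φ' ∘ₗ hf.equiv.toLinearMap = hg.equiv.toLinearMap ∘ₗ (e.baseChange A B _ _).toLinearMap := by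
    apply TensorProduct.AlgebraTensorModule.ext
    intro b x
    change φ' (hf.equiv (b ⊗ₜ x)) = hg.equiv (b ⊗ₜ φ x)
    rw [IsBaseChange.equiv_tmul, IsBaseChange.equiv_tmul, _root_.map_smul, h]
  have h2 : Function.Bijective (φ' ∘ hf.equiv) := by
    have h3 : (φ' ∘ hf.equiv : _ → _) = hg.equiv ∘ (e.baseChange A B _ _) :=
      congrArg (fun t : (B ⊗[A] M →ₗ[B] N') => (t : B ⊗[A] M → N')) h1
    rw [h3]
    exact hg.equiv.bijective.comp (e.baseChange A B _ _).bijective
  exact (Function.Bijective.of_comp_iff _ hf.equiv.bijective).1 h2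

end alg

section pull

attribute [local instance] Groth.Agent.CurvesC.LinMod.linearModules

variable {A B : Type u} [CommRing A] [CommRing B] [Algebra A B] {X X' : Scheme.{u}}
  [X.Over (Spec (CommRingCat.of A))] [X'.Over (Spec (CommRingCat.of B))] (π : X' ⟶ X)
  (sq : IsPullback π (X' ↘ Spec (CommRingCat.of B)) (X ↘ Spec (CommRingCat.of A))
    (Spec.map (CommRingCat.ofHom (algebraMap A B))))

include sq in
theorem bij_pull [CompactSpace X] [Module.Free A B] {W V F : X.Modules} (hW : Coh.IsCoh W)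
    (hV : Coh.IsQCoh V) (hF : Coh.IsQCoh F) (Φ : V ⟶ F)
    (h : Function.Bijective (fun g : W ⟶ V => g ≫ Φ)) :
    Function.Bijective (fun g : (Scheme.Modules.pullback π).obj W ⟶ (Scheme.Modules.pullback π).obj V =>
      g ≫ (Scheme.Modules.pullback π).map Φ) := by
  let i1 : Module A ((Scheme.Modules.pullback π).obj W ⟶ (Scheme.Modules.pullback π).obj V) :=
    homModA (B := B) _ _
  let i2 : Module A ((Scheme.Modules.pullback π).obj W ⟶ (Scheme.Modules.pullback π).obj F) :=
    homModA (B := B) _ _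
  have i3 := isScalarTower_hom (A := A) (B := B) ((Scheme.Modules.pullback π).obj W)
    ((Scheme.Modules.pullback π).obj V)
  have i4 := isScalarTower_hom (A := A) (B := B) ((Scheme.Modules.pullback π).obj W)
    ((Scheme.Modules.pullback π).obj F)
  exact bijective_of_isBaseChange (mapL π sq W V) (isBaseChange_mapL π sq W V hW hV) (mapL π sq W F)
    (isBaseChange_mapL π sq W F hW hF) (Linear.rightComp A W Φ)
    (Linear.rightComp B _ ((Scheme.Modules.pullback π).map Φ))
    (fun x => ((Scheme.Modules.pullback π).map_comp x Φ).symm) h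

end pull

section proj

open scoped Groth.Agent.Dcoh.MonCat

open Groth.Agent.Sga67

theorem nonempty_unit (r : ℕ) (A : Type u) [CommRing A] (i j : ℤ) (h : i + j = 0) :
    Nonempty (CohB1.tensorMod (Twist.twistProjSpace r A i) (Twist.twistProjSpace r A j) ≅
      Coh.structureModule (CohB1.ProjSpace r A)) := by
  obtain ⟨a⟩ := TwistProj.nonempty_mul r A i j
  obtain ⟨c⟩ := Ega2.TwistInv.nonempty_unit_iso (CohB1.polyGrading r A)
  have h0 : Twist.twistProjSpace r A (i + j) = Twist.twist (CohB1.polyGrading r A) 0 := by rw [h]; rfl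
  exact ⟨a ≪≫ eqToIso h0 ≪≫ c.symm⟩

/-- Twisting is an equivalence. -/
theorem isEquivalence_tA (r : ℕ) (A : Type u) [CommRing A] (m : ℤ) :
    (TwistProj.tA r A m).IsEquivalence := by
  obtain ⟨a⟩ := nonempty_unit r A m (-m) (by ring)
  obtain ⟨b⟩ := nonempty_unit r A (-m) m (by ring)
  exact (Dual.tensEquiv (C := (CohB1.ProjSpace r A).Modules) (W := Twist.twistProjSpace r A (-m))
    (L' := Twist.twistProjSpace r A m) b a).isEquivalence_functor

/-- Bijectivity on global sections in terms of homs out of the structure sheaf. -/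
theorem bij_app_top {P : Scheme.{u}} {V F : P.Modules} (Φ : V ⟶ F)
    (h : Function.Bijective (fun g : Coh.structureModule P ⟶ V => g ≫ Φ)) :
    Function.Bijective (Φ.app ⊤) := by
  have h1 : (Φ.app ⊤ : Γ(V, ⊤) → Γ(F, ⊤)) = Dcoh.FinLocFree.unitEquiv F ∘
      (fun g : Coh.structureModule P ⟶ V => g ≫ Φ) ∘ (Dcoh.FinLocFree.unitEquiv V).symm := by
    funext s
    obtain ⟨g, rfl⟩ := (Dcoh.FinLocFree.unitEquiv V).surjective s
    simp only [Function.comp_apply, AddEquiv.symm_apply_apply]
    rfl
  rw [h1]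
  exact (Dcoh.FinLocFree.unitEquiv F).bijective.comp (h.comp (Dcoh.FinLocFree.unitEquiv V).symm.bijective)

end proj

section main

open Groth.Agent.Sga67

variable {k : Type u} [Field k] {X : Scheme.{u}} {f : X ⟶ Spec (CommRingCat.of k)}
  {K : Type u} [Field K] [Algebra k K] {n : ℕ} (e : BrSev.Splitting f K n)

theorem bij_tA [IsProper f] (m : ℤ) {r : ℕ} (hr : 0 < r) {W V F : X.Modules} (hW : Coh.IsCoh W)
    (hWt : BrSev.IsTwPow e (-m) r W) (hV : Coh.IsQCoh V) (hF : Coh.IsQCoh F) (Φ : V ⟶ F)
    (h : Function.Bijective (fun g : W ⟶ V => g ≫ Φ)) :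
    Function.Bijective (((TwistProj.tA n K m).map ((Scheme.Modules.pullback (q e)).map Φ)).app ⊤) := by
  let o1 : X.Over (Spec (CommRingCat.of k)) := ⟨f⟩
  let o2 : (CohB1.ProjSpace n K).Over (Spec (CommRingCat.of K)) := ⟨CohB1.ProjSpace.toSpec n K⟩
  have : CompactSpace X := QuasiCompact.compactSpace_of_compactSpace f
  have h1 := bij_pull (A := k) (B := K) (q e) (isPullback_q e) hW hV hF Φ h
  obtain ⟨φ⟩ := (isTwPow_iff e (-m) r W).1 hWt
  have h2 := bij_retract (Sigma.ι (fun _ : Fin r => Twist.twistProjSpace n K (-m)) ⟨0, hr⟩ ≫ φ.inv)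
    (φ.hom ≫ Sigma.desc (fun _ => 𝟙 _)) (by simp) _ h1
  have hE := isEquivalence_tA n K m
  have h3 := bij_map (TwistProj.tA n K m) _ h2
  obtain ⟨c⟩ := nonempty_unit n K m (-m) (by ring)
  exact bij_app_top _ (bij_retract c.inv c.hom c.inv_hom_id _ h3)

end main

end Groth.Agent.ASBun.K791.HomBij
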