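import Groth.Agent.Sga67.K0Basic
import Groth.Agent.Dcoh.FinLocFree
import Groth.Prelude.Def_BrSev

/-!
# Classes of direct powers in `K₀`

* `isFinLocFree_pow`: `W^s` is finite locally free if `W` is;
* `clSub_pow`: `[W^s] = s [W]`.
-/

set_option autoImplicit false

universe v u

open CategoryTheory CategoryTheory.Limits AlgebraicGeometry

namespace Groth.Agent.ASBun.K791.K0Pow

section Abs

variable {A : Type u} [Category.{v} A] [Preadditive A] [HasFiniteCoproducts A]

/-- The projection `W^{s+1} ⟶ W`. -/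
noncomputable def hd (W : A) (s : ℕ) : (∐ fun _ : Fin (s + 1) => W) ⟶ W :=
  Sigma.desc fun i => (Fin.cases (𝟙 W) (fun _ => 0) i : W ⟶ W)

/-- The projection `W^{s+1} ⟶ W^s`. -/
noncomputable def tl (W : A) (s : ℕ) : (∐ fun _ : Fin (s + 1) => W) ⟶ ∐ fun _ : Fin s => W :=
  Sigma.desc fun i => (Fin.cases 0 (fun j => Sigma.ι (fun _ : Fin s => W) j) i : W ⟶ ∐ fun _ : Fin s => W)

/-- The inclusion `W^s ⟶ W^{s+1}`. -/
noncomputable def sc (W : A) (s : ℕ) : (∐ fun _ : Fin s => W) ⟶ ∐ fun _ : Fin (s + 1) => W :=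
  Sigma.desc fun j => Sigma.ι (fun _ : Fin (s + 1) => W) j.succ

theorem hd_tl (W : A) (s : ℕ) : hd W s ≫ Sigma.ι (fun _ : Fin (s + 1) => W) 0 + tl W s ≫ sc W s = 𝟙 _ := by
  refine Limits.Sigma.hom_ext _ _ fun i => ?_
  rw [Preadditive.comp_add, Category.comp_id]
  refine Fin.cases ?_ (fun j => ?_) i
  · simp [hd, tl, sc]
  · simp [hd, tl, sc]

/-- `0 → W → W^{s+1} → W^s → 0`. -/
noncomputable def powSeq (W : A) (s : ℕ) : ShortComplex A :=
  ShortComplex.mk (X₁ := W) (X₂ := ∐ fun _ : Fin (s + 1) => W) (X₃ := ∐ fun _ : Fin s => W)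
    (Sigma.ι (fun _ : Fin (s + 1) => W) 0)
    (tl W s) (by simp [tl])

/-- The splitting of `powSeq`. -/
noncomputable def powSplit (W : A) (s : ℕ) : (powSeq W s).Splitting where
  r := hd W s
  s := sc W s
  f_r := by simp [powSeq, hd]
  s_g := by
    refine Limits.Sigma.hom_ext _ _ fun j => ?_
    simp [powSeq, tl, sc]
  id := hd_tl W s

end Abs

variable {X : Scheme.{u}}

theorem isZero_pow_zero (W : X.Modules) : IsZero (BrSev.pow W 0) := by
  rw [IsZero.iff_id_eq_zero]
  refine Limits.Sigma.hom_ext _ _ fun i => ?_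
  exact i.elim0

theorem isFinLocFree_pow {W : X.Modules} (hW : FlatMod.IsFinLocFree W) (s : ℕ) :
    FlatMod.IsFinLocFree (BrSev.pow W s) := by
  induction s with
  | zero => exact Dcoh.FinLocFree.isFinLocFree_of_isZero (isZero_pow_zero W)
  | succ s ih =>
    exact Dcoh.FinLocFree.isFinLocFree_of_iso (powSplit W s).isoBinaryBiproduct.symm
      (Dcoh.FinLocFree.isFinLocFree_biprod hW ih)

theorem clSub_pow {W : X.Modules} (hW : FlatMod.IsFinLocFree W) (s : ℕ) :
    KZero.clSub (fun M : X.Modules => FlatMod.IsFinLocFree M) (BrSev.pow W s) =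
      s • KZero.clSub (fun M : X.Modules => FlatMod.IsFinLocFree M) W := by
  induction s with
  | zero => rw [zero_smul, Sga67.K0Basic.clSub_of_isZero (isZero_pow_zero W)]
  | succ s ih =>
    have h := Sga67.K0Basic.clSub_of_shortExact (P := fun M : X.Modules => FlatMod.IsFinLocFree M) (powSeq W s)
      (powSplit W s).shortExact hW (isFinLocFree_pow hW (s + 1)) (isFinLocFree_pow hW s)
    have h' : KZero.clSub (fun M : X.Modules => FlatMod.IsFinLocFree M) (BrSev.pow W (s + 1)) =
      KZero.clSub (fun M : X.Modules => FlatMod.IsFinLocFree M) W +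
        KZero.clSub (fun M : X.Modules => FlatMod.IsFinLocFree M) (BrSev.pow W s) := h
    rw [h', ih, succ_nsmul, add_comm]

end Groth.Agent.ASBun.K791.K0Pow
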