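import Groth.Agent.ASBun.K791.Tens
import Mathlib.AlgebraicGeometry.Morphisms.Flat
import Mathlib.AlgebraicGeometry.Morphisms.FlatDescent

/-!
# The morphism `P^n_K ⟶ X` attached to a splitting

`q e : P^n_K ⟶ X` is the composite of the inverse of the splitting with the projection `X_K ⟶ X`.
* `isPullback_q`: it exhibits `P^n_K` as the base change of `X` to `K`;
* `flat_q`, `surjective_q`;
* `isTwPow_iff`: `W` has type `O(j)^r` iff `q^* W ≅ O(j)^r`.
-/

set_option autoImplicit false

universe u

open CategoryTheory CategoryTheory.Limits AlgebraicGeometry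

namespace Groth.Agent.ASBun.K791.QMap

open Groth.Agent.ASBun.K791.Tens

variable {k : Type u} [Field k] {X : Scheme.{u}} {f : X ⟶ Spec (CommRingCat.of k)}
  {K : Type u} [Field K] [Algebra k K] {n : ℕ} (e : BrSev.Splitting f K n)

/-- The morphism `P^n_K ⟶ X`. -/
noncomputable def q : CohB1.ProjSpace n K ⟶ X := e.iso.inv ≫ BrSev.proj f K

theorem isPullback_q : IsPullback (q e) (CohB1.ProjSpace.toSpec n K) f
    (Spec.map (CommRingCat.ofHom (algebraMap k K))) := by
  refine IsPullback.of_iso (IsPullback.of_hasPullback f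
    (Spec.map (CommRingCat.ofHom (algebraMap k K)))) e.iso (Iso.refl _) (Iso.refl _) (Iso.refl _) ?_ ?_ ?_ ?_
  · simp [q]
  · rw [Iso.refl_hom, Category.comp_id]; exact e.comm.symm
  · simp
  · simp

instance flat_q : Flat (q e) := by
  have h : Flat (Spec.map (CommRingCat.ofHom (algebraMap k K))) :=
    Flat.SpecMap_iff.2 (by
      change (algebraMap k K).Flat
      exact RingHom.flat_algebraMap_iff.2 inferInstance)
  exact MorphismProperty.of_isPullback (P := @Flat) (isPullback_q e).flip h

instance surjective_q : Surjective (q e) := by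
  have h : Surjective (Spec.map (CommRingCat.ofHom (algebraMap k K))) := by
    constructor
    intro x
    obtain ⟨y⟩ : Nonempty (Spec (CommRingCat.of K)) := inferInstance
    exact ⟨y, Subsingleton.elim _ _⟩
  exact MorphismProperty.of_isPullback (P := @Surjective) (isPullback_q e).flip h

/-- `q^* W` is the transport of `W_K` to projective space. -/
noncomputable def qIso (W : X.Modules) :
    (Scheme.Modules.pullback (q e)).obj W ≅
      (Scheme.Modules.pullback e.iso.inv).obj (BrSev.bcMod f K W) :=
  ((Scheme.Modules.pullbackComp e.iso.inv (BrSev.proj f K)).app W).symm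

/-- Pulling back along an isomorphism and its inverse. -/
noncomputable def backForth (M : (CohB1.ProjSpace n K).Modules) :
    (Scheme.Modules.pullback e.iso.inv).obj ((Scheme.Modules.pullback e.iso.hom).obj M) ≅ M :=
  (Scheme.Modules.pullbackComp e.iso.inv e.iso.hom).app M ≪≫
    (Scheme.Modules.pullbackCongr e.iso.inv_hom_id).app M ≪≫ (Scheme.Modules.pullbackId _).app M

/-- Pulling back along an isomorphism and its inverse. -/
noncomputable def forthBack (M : (BrSev.bc f K).Modules) :
    (Scheme.Modules.pullback e.iso.hom).obj ((Scheme.Modules.pullback e.iso.inv).obj M) ≅ M :=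
  (Scheme.Modules.pullbackComp e.iso.hom e.iso.inv).app M ≪≫
    (Scheme.Modules.pullbackCongr e.iso.hom_inv_id).app M ≪≫ (Scheme.Modules.pullbackId _).app M

/-- Type `O(j)^r` in terms of `q`. -/
theorem isTwPow_iff (j : ℤ) (r : ℕ) (W : X.Modules) :
    BrSev.IsTwPow e j r W ↔
      Nonempty ((Scheme.Modules.pullback (q e)).obj W ≅ BrSev.pow (Twist.twistProjSpace n K j) r) := by
  constructor
  · rintro ⟨φ⟩
    exact ⟨qIso e W ≪≫ (Scheme.Modules.pullback e.iso.inv).mapIso φ ≪≫ pullPow e.iso.inv _ r ≪≫
      powMap (backForth e _) r⟩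
  · rintro ⟨φ⟩
    exact ⟨(forthBack e _).symm ≪≫ (Scheme.Modules.pullback e.iso.hom).mapIso ((qIso e W).symm ≪≫ φ) ≪≫
      pullPow e.iso.hom _ r⟩

end Groth.Agent.ASBun.K791.QMap
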