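import Groth.Agent.ASBun.K791.HomBij
import Groth.Agent.ASBun.K791.K0Pow
import Groth.Agent.ASBun.K792.HomFin
import Groth.Agent.Sga67.RegResol
import Groth.Agent.PerfC.FlatExact
import Groth.Agent.Gaga.H883.Serre
import Groth.Agent.PerfA.CohSerre
import Groth.Agent.PerfA.QCohEpi
import Groth.Agent.PerfB.FlatPull
import Groth.Agent.Ega3B.ProjProper

/-!
# The canonical resolution on a Severi–Brauer variety

`psi e m F = O(m) ⊗ q^* F` on `P^n_K`. `Good e m i F`: `F` finite locally free, `psi e m F` is `0`-regular and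
`H^*(psi e m F (-j)) = 0` for `1 ≤ j ≤ i`.
* `step`: for `W` of type `O(-m)^r` with invertible nonzero endomorphisms and `F` good, there is an epimorphism
  `Φ : W^s ⟶ F` with `kernel Φ` good for `(m + 1, i + 1)`;
* `isZero_of_good`: `Good e m (n + 1) F → F = 0`;
* `exists_good`: every finite locally free module is `Good` for `m` large and `i = 0`.
-/

set_option autoImplicit false

universe u

open CategoryTheory CategoryTheory.Limits AlgebraicGeometry

namespace Groth.Agent.ASBun.K791.QuRes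

open Groth.Agent.Sga67 Groth.Agent.Sga67.CMReg Groth.Agent.Sga67.TwistProj Groth.Agent.Sga67.RegResol
open Groth.Agent.ASBun.K791.QMap Groth.Agent.ASBun.K791.HomBij Groth.Agent.ASBun.K791.Tens
open Groth.Agent.Ega3B.ProjFrame K792.EndPow

section glob

variable {R : Type u} [CommRing R] {n : ℕ}

/-- A morphism onto a `0`-regular module surjective on global sections is an epimorphism. -/
theorem epi_of_sections {V F : (CohB1.ProjSpace n R).Modules} (hF : Coh.IsQCoh F) (h : Reg F 0)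
    (Φ : V ⟶ F) (hs : Function.Surjective (Φ.app ⊤)) : Epi Φ := by
  constructor
  intro Z h₁ h₂ hh
  have key : (zeroIso F).hom ≫ h₁ = (zeroIso F).hom ≫ h₂ := by
    refine Groth.Agent.Ega2.GlobGenCrit.hom_ext_of_span
      (Groth.Agent.VarietyB.TwistQCoh.isQCoh_tensor_twist F hF 0) (frameProj n R).W (isAffineOpen_frameProj n R)
      (frameProj n R).cov Set.univ (fun i => ?_) _ _ ?_
    · rw [Set.image_univ]
      exact span_eq_top hF h 0 le_rfl i
    · rintro m -
      obtain ⟨v, hv⟩ := hs ((zeroIso F).hom.app ⊤ m)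
      change h₁.app ⊤ ((zeroIso F).hom.app ⊤ m) = h₂.app ⊤ ((zeroIso F).hom.app ⊤ m)
      rw [← hv]
      exact congrArg (fun φ => Scheme.Modules.Hom.app φ ⊤ v) hh
  exact (cancel_epi (zeroIso F).hom).1 key

end glob

variable {k : Type u} [Field k] {X : Scheme.{u}} {f : X ⟶ Spec (CommRingCat.of k)}
  {K : Type u} [Field K] [Algebra k K] {n : ℕ} (e : BrSev.Splitting f K n)

/-- `F ↦ O(m) ⊗ q^* F`. -/
noncomputable def psi (m : ℤ) : X.Modules ⥤ (CohB1.ProjSpace n K).Modules :=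
  Scheme.Modules.pullback (q e) ⋙ tA n K m

noncomputable instance (m : ℤ) : PreservesFiniteLimits (psi e m) := by
  have := PerfC.FlatExact.preservesFiniteLimits_pullback (f := q e)
  exact comp_preservesFiniteLimits _ _

noncomputable instance (m : ℤ) : PreservesFiniteColimits (psi e m) :=
  comp_preservesFiniteColimits _ _

instance (m : ℤ) : (psi e m).Additive := Functor.additive_of_preserves_binary_products _

theorem isZero_of_psi {F : X.Modules} (m : ℤ) (h : IsZero ((psi e m).obj F)) : IsZero F :=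
  PerfC.FlatExact.isZero_of_pullback (q e) F (isZero_of_isZero_tA m h)

theorem epi_of_psi {V F : X.Modules} (Φ : V ⟶ F) (m : ℤ) (h : Epi ((psi e m).map Φ)) : Epi Φ := by
  apply Preadditive.epi_of_isZero_cokernel
  apply isZero_of_psi e m
  exact (isZero_cokernel_of_epi ((psi e m).map Φ)).of_iso (PreservesCokernel.iso (psi e m) Φ)

/-- The modules to which the resolution step applies. -/
structure Good (m : ℤ) (i : ℕ) (F : X.Modules) : Prop where
  flf : FlatMod.IsFinLocFree F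
  reg : Reg ((psi e m).obj F) 0
  van : Van i ((psi e m).obj F)

theorem isFinLocFree_psi (m : ℤ) {F : X.Modules} (hF : FlatMod.IsFinLocFree F) :
    FlatMod.IsFinLocFree ((psi e m).obj F) :=
  isFinLocFree_tA m (PerfB.FlatPull.isFinLocFree_pullback (q e) hF)

theorem isQCoh_psi (m : ℤ) {F : X.Modules} (hF : FlatMod.IsFinLocFree F) :
    Coh.IsQCoh ((psi e m).obj F) :=
  PerfA.QCohEpi.isQCoh_of_isFinLocFree (isFinLocFree_psi e m hF)

/-- `psi e m (W^s)` is free for `W` of type `O(-m)^r`. -/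
theorem nonempty_psi_pow (m : ℤ) {r : ℕ} {W : X.Modules} (hWt : BrSev.IsTwPow e (-m) r W) (s : ℕ) :
    ∃ N : ℕ, Nonempty ((psi e m).obj (BrSev.pow W s) ≅ FlatMod.freeMod (CohB1.ProjSpace n K) N) := by
  obtain ⟨φ⟩ := (isTwPow_iff e (-m) r W).1 hWt
  obtain ⟨c⟩ := nonempty_unit n K m (-m) (by ring)
  have h1 : (psi e m).obj (BrSev.pow W s) ≅ BrSev.pow ((psi e m).obj W) s :=
    ((Dec.coprod fun _ : Fin s => W).map (psi e m)).isoCoprod
  have h2 : (psi e m).obj W ≅ BrSev.pow ((tA n K m).obj (Twist.twistProjSpace n K (-m))) r :=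
    (tA n K m).mapIso φ ≪≫ ((Dec.coprod fun _ : Fin r => Twist.twistProjSpace n K (-m)).map (tA n K m)).isoCoprod
  exact ⟨_, ⟨h1 ≪≫ powMap (h2 ≪≫ powMap c r) s ≪≫ powPow _ _ _⟩⟩

/-- The map `Φ`. -/
theorem exists_Phi [IsProper f] {m : ℤ} {r : ℕ} (hr : 0 < r) {W : X.Modules} (hW : FlatMod.IsFinLocFree W)
    (hWt : BrSev.IsTwPow e (-m) r W) (hWd : ∀ g : W ⟶ W, g ≠ 0 → IsIso g)
    {F : X.Modules} (hF : FlatMod.IsFinLocFree F) :
    ∃ (s : ℕ) (Φ : BrSev.pow W s ⟶ F), Function.Bijective (((psi e m).map Φ).app ⊤) := by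
  let o1 : X.Over (Spec (CommRingCat.of k)) := ⟨f⟩
  have o2 : IsProper (X ↘ Spec (CommRingCat.of k)) := inferInstanceAs (IsProper f)
  let lin : Linear k X.Modules := CurvesC.LinMod.linearModules k X
  have hN : IsLocallyNoetherian X := LocallyOfFiniteType.isLocallyNoetherian f
  have hWc : Coh.IsCoh W := PerfA.CohSerre.isCoh_of_isFinLocFree hW
  have hFc : Coh.IsCoh F := PerfA.CohSerre.isCoh_of_isFinLocFree hF
  have hfin : Module.Finite k (W ⟶ F) := K792.HomFin.finite_hom k W F hWc hFc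
  obtain ⟨s, Φ, hΦ⟩ := DivHom.exists_pow_bij k W F hWd
  have hV : FlatMod.IsFinLocFree (BrSev.pow W s) := K0Pow.isFinLocFree_pow hW s
  exact ⟨s, Φ, bij_tA e m hr hWc hWt (PerfA.CohSerre.isCoh_of_isFinLocFree hV).1 hFc.1 Φ hΦ⟩

/-- The image of the kernel sequence of `Φ`. -/
noncomputable def T (m : ℤ) {V F : X.Modules} (Φ : V ⟶ F) : ShortComplex (CohB1.ProjSpace n K).Modules :=
  ShortComplex.mk (X₁ := (psi e m).obj (kernel Φ)) (X₂ := (psi e m).obj V) (X₃ := (psi e m).obj F)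
    ((psi e m).map (kernel.ι Φ)) ((psi e m).map Φ)
    (by rw [← Functor.map_comp, kernel.condition, Functor.map_zero])

theorem shortExact_T (m : ℤ) {V F : X.Modules} (Φ : V ⟶ F) [Epi Φ] : (T e m Φ).ShortExact := by
  have hS : (ShortComplex.mk (kernel.ι Φ) Φ (kernel.condition Φ)).ShortExact :=
    { exact := ShortComplex.exact_kernel Φ
      mono_f := inferInstanceAs (Mono (kernel.ι Φ))
      epi_g := inferInstanceAs (Epi Φ) }
  exact hS.map_of_exact (psi e m)

theorem good_kernel {m : ℤ} {i : ℕ} (hi : i ≤ n) {V F : X.Modules} (hV : FlatMod.IsFinLocFree V)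
    (hF : Good e m i F) (Φ : V ⟶ F) [Epi Φ] (hb : Function.Bijective (((psi e m).map Φ).app ⊤)) {N : ℕ}
    (a : (psi e m).obj V ≅ FlatMod.freeMod (CohB1.ProjSpace n K) N) : Good e (m + 1) (i + 1) (kernel Φ) := by
  have hT := shortExact_T e m Φ
  have hfree : FlatMod.IsFinLocFree (FlatMod.freeMod (Spec (CommRingCat.of K)) N) :=
    Dcoh.FinLocFree.isFinLocFree_freeMod _ N
  have b : (T e m Φ).X₂ ≅ (Scheme.Modules.pullback (CohB1.ProjSpace.toSpec n K)).obj
      (FlatMod.freeMod (Spec (CommRingCat.of K)) N) :=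
    a ≪≫ (PerfB.FlatPull.pullbackFreeMod (CohB1.ProjSpace.toSpec n K) N).symm
  obtain ⟨c⟩ := nonempty_tA_tA n K 1 m (m + 1) (by ring) ((Scheme.Modules.pullback (q e)).obj (kernel Φ))
  have h1 : Reg ((tA n K 1).obj (T e m Φ).X₁) 0 := reg_succ hfree hT b hF.reg hb.2
  have h2 : Van (i + 1) ((tA n K 1).obj (T e m Φ).X₁) :=
    van_succ hfree hT b (isQCoh_psi e m hF.flf) hF.reg hb hi hF.van
  have c' : (tA n K 1).obj (T e m Φ).X₁ ≅ (psi e (m + 1)).obj (kernel Φ) := c
  exact ⟨Dcoh.Spread.isFinLocFree_kernel Φ hV hF.flf, reg_of_iso c' h1, van_of_iso c' h2⟩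

theorem step [IsProper f] {m : ℤ} {r : ℕ} (hr : 0 < r) {W : X.Modules} (hW : FlatMod.IsFinLocFree W)
    (hWt : BrSev.IsTwPow e (-m) r W) (hWd : ∀ g : W ⟶ W, g ≠ 0 → IsIso g) {i : ℕ} (hi : i ≤ n)
    {F : X.Modules} (hF : Good e m i F) :
    ∃ (s : ℕ) (Φ : BrSev.pow W s ⟶ F), Epi Φ ∧ Good e (m + 1) (i + 1) (kernel Φ) := by
  obtain ⟨s, Φ, hb⟩ := exists_Phi e hr hW hWt hWd hF.flf
  have hV : FlatMod.IsFinLocFree (BrSev.pow W s) := K0Pow.isFinLocFree_pow hW s
  have hq : Coh.IsQCoh ((psi e m).obj F) := isQCoh_psi e m hF.flf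
  have hepi : Epi Φ := epi_of_psi e Φ m (epi_of_sections hq hF.reg _ hb.2)
  refine ⟨s, Φ, hepi, ?_⟩
  obtain ⟨N, ⟨a⟩⟩ := nonempty_psi_pow e m hWt s
  exact good_kernel e hi hV hF Φ hb a

theorem isZero_of_good {m : ℤ} {F : X.Modules} (hF : Good e m (n + 1) F) : IsZero F :=
  isZero_of_psi e m (isZero_of_van (isQCoh_psi e m hF.flf) hF.van)

/-- Every finite locally free module is good for large `m`. -/
theorem exists_good [IsProper f] {F : X.Modules} (hF : FlatMod.IsFinLocFree F) :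
    ∃ m : ℕ, Good e m 0 F := by
  have hM : FlatMod.IsFinLocFree ((Scheme.Modules.pullback (q e)).obj F) :=
    PerfB.FlatPull.isFinLocFree_pullback (q e) hF
  have hp := Ega3B.ProjProper.isProper_toSpec n K
  have hP : IsLocallyNoetherian (CohB1.ProjSpace n K) :=
    LocallyOfFiniteType.isLocallyNoetherian (CohB1.ProjSpace.toSpec n K)
  obtain ⟨m₀, h₀⟩ := Gaga.H883.Serre.serre n K (PerfA.CohSerre.isCoh_of_isFinLocFree hM)
  refine ⟨m₀ + n, hF, ?_, van_zero _⟩
  rw [reg_iff]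
  intro p h1 h2
  refine (hh_tA_tA (0 - (p : ℤ)) ((m₀ + n : ℕ) : ℤ) (((m₀ + n : ℕ) : ℤ) - p) (by ring) p).2 ?_
  exact (hh_iff _ _ _).1 (h₀ _ (by omega) p h1)

end Groth.Agent.ASBun.K791.QuRes
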